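import Groth.Agent.WeilSmooth.FrobSplit
import Groth.Agent.Props.GenTensor
import Groth.Agent.AmpleLib.Basic
import Groth.Agent.ProjTwist.Tensor
import Groth.Agent.ProperFin.Supp
import Mathlib.Algebra.CharP.Lemmas

/-!
# The Frobenius map `L → L^{⊗ p}` of an invertible module and its splitting
-/

set_option autoImplicit false
set_option linter.style.haveILetI false

universe u

open CategoryTheory CategoryTheory.Limits AlgebraicGeometry Opposite TopologicalSpace

noncomputable section

namespace Groth.Agent.FrobInv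

open Groth.Agent.QCoh Groth.Agent.Props.GenLocus Groth.Agent.Props.GenTensor

variable {X : Scheme.{u}} {p : ℕ} {L : X.Modules}

theorem pw_add [Fact p.Prime] (hL : PicF.IsInvertible L)
    (hp : ∀ V : X.Opens, (p : Γ(X, V)) = 0) {V : X.Opens} (m n : Γ(L, V)) :
    pw L (m + n) p = pw L m p + pw L n p := by
  choose U e hxU he using fun x : V => exists_isGen hL x.1
  refine eq_of_locally_eq (CohB1.tensorPow L p) (U := fun x : V => U x ⊓ V) (fun x => inf_le_right)
    (fun x hx => Opens.mem_iSup.mpr ⟨⟨x, hx⟩, ⟨hxU _, hx⟩⟩) _ _ fun x => ?_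
  obtain ⟨a, ha, -⟩ := ((he x).restrict inf_le_left).exists_eq le_rfl
    (res L (inf_le_right : U x ⊓ V ≤ V) m)
  obtain ⟨b, hb, -⟩ := ((he x).restrict inf_le_left).exists_eq le_rfl
    (res L (inf_le_right : U x ⊓ V ≤ V) n)
  obtain ⟨c, hc⟩ := exists_add_pow_prime_eq (R := Γ(X, U x ⊓ V)) (Fact.out : p.Prime) a b
  rw [map_add, res_pw, res_pw, res_pw, map_add, ha, hb, ← add_smul, pw_smul, pw_smul, pw_smul,
    ← add_smul, hc, hp, zero_mul, zero_mul, zero_mul, add_zero]

theorem pw_zero [Fact p.Prime] (V : X.Opens) : pw L (0 : Γ(L, V)) p = 0 := by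
  rw [← zero_smul Γ(X, V) (0 : Γ(L, V)), pw_smul, zero_pow (Fact.out : p.Prime).ne_zero, zero_smul]

/-- `m ↦ m^{⊗ p}`. -/
def frobHom [Fact p.Prime] (hL : PicF.IsInvertible L) (hp : ∀ V : X.Opens, (p : Γ(X, V)) = 0) :
    Coh.toAb L ⟶ Coh.toAb (CohB1.tensorPow L p) :=
  ⟨{ app := fun V => AddCommGrpCat.ofHom
      { toFun := fun m : Γ(L, V.unop) => pw L m p
        map_zero' := pw_zero V.unop
        map_add' := pw_add hL hp }
     naturality := fun U V i => by
      refine ConcreteCategory.hom_ext _ _ fun (m : Γ(L, U.unop)) => ?_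
      exact (res_pw i.unop.le m p).symm }⟩

section Retraction

variable (s : Coh.toAb (Coh.structureModule X) ⟶ Coh.toAb (Coh.structureModule X))

/-- `s` on functions over an open. -/
def sapp (V : X.Opens) (a : Γ(X, V)) : Γ(X, V) := s.hom.app (op V) a

theorem sapp_add (V : X.Opens) (a b : Γ(X, V)) : sapp s V (a + b) = sapp s V a + sapp s V b :=
  map_add (s.hom.app (op V)).hom a b

theorem sapp_res {U V : X.Opens} (h : V ≤ U) (a : Γ(X, U)) :
    rres h (sapp s U a) = sapp s V (rres h a) :=
  (NatTrans.naturality_apply s.hom (homOfLE h).op a).symm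

variable (hlin : ∀ (U : X.Opens) (a b : Γ(X, U)), sapp s U (a ^ p * b) = a * sapp s U b)

/-- `m` corresponds to `w` under the splitting. -/
def Rel (V : X.Opens) (w : Γ(CohB1.tensorPow L p, V)) (m : Γ(L, V)) : Prop :=
  ∀ (W : X.Opens) (h : W ≤ V) (e : Γ(L, W)), IsGen L W e → ∀ r : Γ(X, W),
    res (CohB1.tensorPow L p) h w = r • pw L e p → res L h m = sapp s W r • e

include hlin in
theorem consistent {W W' : X.Opens} {e : Γ(L, W)} (he : IsGen L W e) {e' : Γ(L, W')}
    (r : Γ(X, W)) (r' : Γ(X, W')) {Z : X.Opens} (h : Z ≤ W) (h' : Z ≤ W')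
    (hrr : res (CohB1.tensorPow L p) h (r • pw L e p) = res (CohB1.tensorPow L p) h' (r' • pw L e' p)) :
    res L h (sapp s W r • e) = res L h' (sapp s W' r' • e') := by
  obtain ⟨c, hc, -⟩ := he.exists_eq h (res L h' e')
  rw [res_smul, res_smul, res_pw, res_pw, hc, pw_smul, smul_smul] at hrr
  have hr : rres h r = rres h' r' * c ^ p :=
    (isGen_pw (he.restrict h) p Z le_rfl).1 (by simpa only [sm, res_self] using hrr)
  rw [res_smul, res_smul, hc, sapp_res, sapp_res, smul_smul, hr, mul_comm (rres h' r'), hlin,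
    mul_comm c]

include hlin in
theorem existsUnique_rel (hL : PicF.IsInvertible L) (V : X.Opens) (w : Γ(CohB1.tensorPow L p, V)) :
    ∃! m : Γ(L, V), Rel s V w m := by
  choose U e hxU he using fun x : V => exists_isGen hL x.1
  let W : V → X.Opens := fun x => U x ⊓ V
  let f : ∀ x, Γ(L, W x) := fun x => res L inf_le_left (e x)
  have hf : ∀ x, IsGen L (W x) (f x) := fun x => (he x).restrict inf_le_left
  have hW : ∀ x, W x ≤ V := fun x => inf_le_right
  have hcov : V ≤ iSup W := fun x hx => Opens.mem_iSup.mpr ⟨⟨x, hx⟩, ⟨hxU _, hx⟩⟩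
  choose r hr using fun x => (isGen_pw (hf x) p).exists_eq le_rfl (res _ (hW x) w)
  have hr' : ∀ x, res (CohB1.tensorPow L p) (hW x) w = r x • pw L (f x) p := fun x => by
    simpa only [res_self] using (hr x).1
  let m : ∀ x, Γ(L, W x) := fun x => sapp s (W x) (r x) • f x
  obtain ⟨M, hM, -⟩ := TopCat.Sheaf.existsUnique_gluing' ⟨L.presheaf, L.isSheaf⟩ W V
    (fun x => homOfLE (hW x)) hcov m (fun x y => by
      refine consistent s hlin (hf x) (r x) (r y) inf_le_left inf_le_right ?_
      rw [← hr', ← hr', res_res, res_res])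
  refine ⟨M, fun Z hZ g hg a ha => ?_, fun M' hM' => ?_⟩
  · refine eq_of_locally_eq L (U := fun x => Z ⊓ W x) (fun x => inf_le_left)
      (fun z hz => ?_) _ _ fun x => ?_
    · obtain ⟨x, hx⟩ := Opens.mem_iSup.mp (hcov (hZ hz))
      exact Opens.mem_iSup.mpr ⟨x, hz, hx⟩
    · have hx : res L (hW x) M = m x := hM x
      rw [res_res, ← res_res L (hW x) (inf_le_right : Z ⊓ W x ≤ W x), hx]
      exact consistent s hlin (hf x) (e' := g) (r x) a inf_le_right inf_le_left
        (by rw [← hr', ← ha, res_res, res_res])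
  · refine eq_of_locally_eq L hW hcov _ _ fun x => ?_
    have hx : res L (hW x) M = m x := hM x
    rw [hx]
    exact hM' _ (hW x) _ (hf x) _ (hr' x)

theorem rel_add {V : X.Opens} {w w' : Γ(CohB1.tensorPow L p, V)}
    {m m' : Γ(L, V)} (h : Rel s V w m) (h' : Rel s V w' m') : Rel s V (w + w') (m + m') := by
  intro W hW e he r hr
  obtain ⟨a, ha, -⟩ := (isGen_pw he p).exists_eq le_rfl (res _ hW w)
  obtain ⟨b, hb, -⟩ := (isGen_pw he p).exists_eq le_rfl (res _ hW w')
  rw [res_self] at ha hb
  rw [map_add, ha, hb, ← add_smul] at hr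
  have : a + b = r := (isGen_pw he p W le_rfl).1 (by simpa only [sm, res_self] using hr)
  rw [map_add, h W hW e he a ha, h' W hW e he b hb, ← add_smul, ← sapp_add, this]

theorem rel_res {U V : X.Opens} (i : V ≤ U) {w : Γ(CohB1.tensorPow L p, U)} {m : Γ(L, U)}
    (h : Rel s U w m) : Rel s V (res _ i w) (res L i m) := fun W hW e he r hr => by
  rw [res_res]
  exact h W _ e he r (by rw [← hr, res_res])

/-- The retraction of `m ↦ m^{⊗ p}`. -/
def splitHom (hL : PicF.IsInvertible L) :
    Coh.toAb (CohB1.tensorPow L p) ⟶ Coh.toAb L :=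
  ⟨{ app := fun V => AddCommGrpCat.ofHom (AddMonoidHom.mk'
      (fun w : Γ(CohB1.tensorPow L p, V.unop) => (existsUnique_rel s hlin hL V.unop w).exists.choose)
      fun w w' => (existsUnique_rel s hlin hL V.unop (w + w')).unique
        (existsUnique_rel s hlin hL V.unop (w + w')).exists.choose_spec
        (rel_add s (existsUnique_rel s hlin hL V.unop w).exists.choose_spec
          (existsUnique_rel s hlin hL V.unop w').exists.choose_spec))
     naturality := fun U V i => by
      refine ConcreteCategory.hom_ext _ _ fun (w : Γ(CohB1.tensorPow L p, U.unop)) => ?_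
      exact (existsUnique_rel s hlin hL V.unop (res _ i.unop.le w)).unique
        (existsUnique_rel s hlin hL V.unop _).exists.choose_spec
        (rel_res s i.unop.le (existsUnique_rel s hlin hL U.unop w).exists.choose_spec) }⟩

theorem frobHom_splitHom [Fact p.Prime] (hL : PicF.IsInvertible L)
    (hp : ∀ V : X.Opens, (p : Γ(X, V)) = 0) (h1 : ∀ V : X.Opens, sapp s V 1 = 1) :
    frobHom hL hp ≫ splitHom s hlin hL = 𝟙 _ := by
  refine Sheaf.hom_ext (NatTrans.ext (funext fun V => ?_))
  refine ConcreteCategory.hom_ext _ _ fun (m : Γ(L, V.unop)) => ?_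
  refine (existsUnique_rel s hlin hL V.unop (pw L m p)).unique
    (existsUnique_rel s hlin hL V.unop (pw L m p)).exists.choose_spec ?_
  intro W hW e he r hr
  obtain ⟨a, ha, -⟩ := he.exists_eq le_rfl (res L hW m)
  rw [res_self] at ha
  rw [res_pw, ha, pw_smul] at hr
  have : a ^ p = r := (isGen_pw he p W le_rfl).1 (by simpa only [sm, res_self] using hr)
  refine ha.trans ?_
  rw [← this, ← mul_one (a ^ p), hlin, h1, mul_one]

end Retraction

end Groth.Agent.FrobInv
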